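import Cfsg.Agent.Lib.H12.J3M.S1.Data
import Cfsg.Agent.Lib.H12.J3M.MonoWide

set_option autoImplicit false
set_option maxRecDepth 100000

/-! # Word lists and lattice certificates of the monomial certificate (generated) -/

namespace Cfsg.Agent.Lib.H12.J3M.S1

open Cfsg.Agent.Lib.H17.CosetCert (BT WT)
open Cfsg.Agent.Lib.H17.MonoCert
open Cfsg.Agent.Lib.H12.J3M

/-- the exact relators -/
def exactL : List (List ℕ) := [[0, 0, 0, 0, 0, 0, 0, 0, 0, 0, 0, 0, 0, 0, 0, 0, 0], [2, 2, 2, 2, 2]]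

/-- the inverse pair words -/
def pairL : List (List ℕ) := [[0, 1], [1, 0], [2, 3], [3, 2]]

/-- the symbol relators -/
def symL : List (List ℕ) := [[1, 2, 1, 2], [1, 1, 3, 1, 1, 3, 3, 1, 1, 3, 1, 1, 3, 3], [1, 1, 1, 1, 1, 3, 3, 1, 1, 1, 1, 1, 3, 3], [1, 1, 3, 1, 2, 0, 2, 1, 1, 3, 3, 0, 0, 2]]

/-- the other central relators -/
def cenL : List (List ℕ) := []

/-- the unit vectors -/
def unitL : List (List ℤ) := [[(1 : ℤ), (0 : ℤ), (0 : ℤ), (0 : ℤ)], [(0 : ℤ), (1 : ℤ), (0 : ℤ), (0 : ℤ)], [(0 : ℤ), (0 : ℤ), (1 : ℤ), (0 : ℤ)], [(0 : ℤ), (0 : ℤ), (0 : ℤ), (1 : ℤ)]]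

theorem seed_cases : ∀ p ∈ seedL, (p.2 = List.replicate 4 0 ∧ p.1 ∈ exactL ++ pairL) ∨
    p ∈ List.zip symL unitL := by
  decide +kernel

theorem rel_cases : ∀ w ∈ relL, w ∈ exactL ++ pairL ∨ w ∈ symL ++ cenL := by
  decide +kernel

/-- the pairs of words giving the relations, with the difference of their twists -/
def relPairs : List (ℕ × ℕ × List ℤ) := [(2, 11, [(.ofNat 1), (.ofNat 1), (.negSucc 0), (.ofNat 0)]), (1, 12, [(.ofNat 1), (.negSucc 1), (.ofNat 1), (.ofNat 2)]), (9, 13, [(.ofNat 0), (.negSucc 1), (.negSucc 1), (.ofNat 1)]), (7, 14, [(.ofNat 4), (.negSucc 2), (.negSucc 0), (.negSucc 3)])]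

/-- check of a relation pair: same relator word, twists differing by `v` -/
noncomputable def relChk (p : ℕ × ℕ × List ℤ) : Bool :=
  match WT.get words p.1, WT.get words p.2.1 with
  | some (wd1, true), some (wd2, true) => decide (wd1 = wd2) && decide (Ev p.2.1 = ladd (Ev p.1) p.2.2) &&
      decide (p.1 < 15) && decide (p.2.1 < 15)
  | _, _ => false

theorem rel_chk : ∀ p ∈ relPairs, relChk p = true := by
  decide +kernel

/-- the relation vectors -/
def relV : List (List ℤ) := [[(.ofNat 1), (.ofNat 1), (.negSucc 0), (.ofNat 0)], [(.ofNat 1), (.negSucc 1), (.ofNat 1), (.ofNat 2)], [(.ofNat 0), (.negSucc 1), (.negSucc 1), (.ofNat 1)], [(.ofNat 4), (.negSucc 2), (.negSucc 0), (.negSucc 3)]]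

theorem relV_eq : relPairs.map (fun p => p.2.2) = relV := by
  decide +kernel

theorem pow_cert0 : lsmul (.ofNat 85) [(.ofNat 1), (.ofNat 0), (.ofNat 0), (.ofNat 0)] = lcomb [(.ofNat 37), (.ofNat 20), (.negSucc 11), (.ofNat 7)] relV := by
  decide +kernel

theorem pow_cert1 : lsmul (.ofNat 85) [(.ofNat 0), (.ofNat 1), (.ofNat 0), (.ofNat 0)] = lcomb [(.ofNat 29), (.negSucc 4), (.negSucc 13), (.negSucc 5)] relV := by
  decide +kernel

theorem pow_cert2 : lsmul (.ofNat 85) [(.ofNat 0), (.ofNat 0), (.ofNat 1), (.ofNat 0)] = lcomb [(.negSucc 18), (.ofNat 15), (.negSucc 25), (.ofNat 1)] relV := by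
  decide +kernel

theorem pow_cert3 : lsmul (.ofNat 85) [(.ofNat 0), (.ofNat 0), (.ofNat 0), (.ofNat 1)] = lcomb [(.ofNat 20), (.ofNat 20), (.ofNat 5), (.negSucc 9)] relV := by
  decide +kernel

end Cfsg.Agent.Lib.H12.J3M.S1
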